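import Groth.Agent.Lib.CSAlg.Split
import Mathlib.FieldTheory.KummerPolynomial
import Mathlib.FieldTheory.Minpoly.Field
import Mathlib.RingTheory.AdjoinRoot
import Mathlib.Algebra.CharP.Lemmas
import Mathlib.Algebra.CharP.Algebra
import Mathlib.Tactic.NoncommRing

/-!
# Division algebras of prime degree
-/

namespace Groth.Agent.DivAlg

open Polynomial

universe u v

variable {K : Type u} [Field K] {A : Type v} [DivisionRing A] [Algebra K A]

theorem finrank_adjoin [FiniteDimensional K A] (z : A) :
    Module.finrank K (Algebra.adjoin K {z}) = (minpoly K z).natDegree := by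
  rw [Algebra.adjoin_singleton_eq_range_aeval, ← finrank_quotient_span_eq_natDegree (K := K)]
  exact ((Ideal.quotientEquivAlgOfEq K (minpoly.ker_aeval_eq_span_minpoly K z).symm).trans
    (Ideal.quotientKerEquivRange (aeval z : K[X] →ₐ[K] A))).toLinearEquiv.finrank_eq.symm

theorem comm_of_adjoin (z : A) :
    ∀ x ∈ Algebra.adjoin K {z}, ∀ y ∈ Algebra.adjoin K {z}, x * y = y * x := by
  intro x hx y hy
  have h : ∀ a ∈ ({z} : Set A), ∀ b ∈ ({z} : Set A), a * b = b * a := by
    rintro a rfl b rfl; rfl
  exact congrArg Subtype.val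
    (((Algebra.isMulCommutative_adjoin K h).is_comm.comm ⟨x, hx⟩ ⟨y, hy⟩))

theorem not_comm_exists [Algebra.IsCentral K A] {x : A} (hx : x ∉ (algebraMap K A).range) :
    ∃ v : A, v * x ≠ x * v := by
  by_contra h
  push Not at h
  exact hx (by
    obtain ⟨c, hc⟩ := Algebra.mem_bot.1 (Algebra.IsCentral.out (Subalgebra.mem_center_iff.2
      (fun b => h b) : x ∈ Subalgebra.center K A))
    exact ⟨c, hc⟩)

theorem mem_range_of_mem_bot {x : A} (hx : x ∈ (⊥ : Subalgebra K A)) :
    x ∈ (algebraMap K A).range := by
  obtain ⟨c, hc⟩ := Algebra.mem_bot.1 hx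
  exact ⟨c, hc⟩

theorem insep_of_pow_mem (p : ℕ) [hp : Fact p.Prime] [CharP K p] [FiniteDimensional K A] {u : A}
    (hu : u ∉ (algebraMap K A).range) (hup : u ^ p ∈ (algebraMap K A).range) :
    ¬ IsSeparable K u := by
  obtain ⟨c, hc⟩ := hup
  haveI : CharP A p := charP_of_injective_algebraMap (algebraMap K A).injective p
  have hnp : ∀ b : K, b ^ p ≠ c := by
    rintro b rfl
    apply hu
    refine ⟨b, ?_⟩
    have h0 : (u - algebraMap K A b) ^ p = 0 := by
      rw [sub_pow_char_of_commute p (Algebra.commutes b u).symm, ← hc, map_pow, sub_self]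
    exact (sub_eq_zero.1 (pow_eq_zero_iff hp.out.ne_zero |>.1 h0)).symm
  have hirr := X_pow_sub_C_irreducible_of_prime hp.out hnp
  have h0 : aeval u (X ^ p - C c : K[X]) = 0 := by simp [hc]
  have := minpoly.eq_of_irreducible_of_monic hirr h0 (monic_X_pow_sub_C c hp.out.ne_zero)
  intro hs
  rw [IsSeparable, ← this, separable_iff_derivative_ne_zero hirr] at hs
  simp [derivative_X_pow] at hs

section prime

variable [Algebra.IsCentral K A] [FiniteDimensional K A] {p : ℕ} [hp : Fact p.Prime]

theorem centralizer_adjoin (hA : Module.finrank K A = p ^ 2) {z : A}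
    (hz : z ∉ (algebraMap K A).range) :
    Module.finrank K (Algebra.adjoin K {z}) = p ∧
      Subalgebra.centralizer K (Algebra.adjoin K {z} : Set A) = Algebra.adjoin K {z} := by
  set B := Algebra.adjoin K {z} with hB
  haveI := CSAlg.isSimpleRing_subalgebra B
  have hle : B ≤ Subalgebra.centralizer K (B : Set A) :=
    CSAlg.le_centralizer_of_comm B (comm_of_adjoin z)
  have h1 := CSAlg.finrank_centralizer B
  have h2 : Module.finrank K B ≤ Module.finrank K (Subalgebra.centralizer K (B : Set A)) :=
    Submodule.finrank_mono (show B.toSubmodule ≤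
      (Subalgebra.centralizer K (B : Set A)).toSubmodule from hle)
  have h3 : 1 < Module.finrank K B := by
    have h0 : 0 < Module.finrank K B := Module.finrank_pos
    rcases Nat.lt_or_ge 1 (Module.finrank K B) with h | h
    · exact h
    · have : B = ⊥ := Subalgebra.eq_bot_of_finrank_one (by omega)
      exact absurd (mem_range_of_mem_bot (this ▸ Algebra.subset_adjoin rfl)) hz
  rw [hA] at h1
  obtain ⟨i, hi, hi'⟩ := (Nat.dvd_prime_pow hp.out).1 (Dvd.intro _ h1.symm)
  have hp0 := hp.out.two_le
  interval_cases i
  · rw [pow_zero] at hi'; omega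
  · simp only [pow_one] at hi'
    refine ⟨hi', (Subalgebra.eq_of_le_of_finrank_eq hle ?_).symm⟩
    rw [hi', sq] at h1
    rw [hi']
    exact Nat.eq_of_mul_eq_mul_left hp.out.pos h1
  · rw [hi'] at h1 h2
    have : Module.finrank K (Subalgebra.centralizer K (B : Set A)) = 1 :=
      (Nat.mul_eq_left (by positivity)).1 h1.symm
    nlinarith

/-- Two elements commuting with a non-central element commute. -/
theorem comm_of (hA : Module.finrank K A = p ^ 2) {z a b : A} (hz : z ∉ (algebraMap K A).range)
    (ha : z * a = a * z) (hb : z * b = b * z) : a * b = b * a := by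
  have key : ∀ c : A, z * c = c * z → c ∈ Algebra.adjoin K {z} := fun c hc => by
    rw [← (centralizer_adjoin hA hz).2, Subalgebra.mem_centralizer_iff]
    intro g hg
    have : Algebra.adjoin K {z} ≤ Subalgebra.centralizer K ({c} : Set A) :=
      Algebra.adjoin_le (by
        intro y hy
        rw [Set.mem_singleton_iff] at hy
        rw [SetLike.mem_coe, Subalgebra.mem_centralizer_iff, hy]
        rintro g rfl
        exact hc.symm)
    exact ((Subalgebra.mem_centralizer_iff K).1 (this hg) c rfl).symm
  exact comm_of_adjoin z a (key a ha) b (key b hb)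

theorem natDegree_minpoly (hA : Module.finrank K A = p ^ 2) {z : A}
    (hz : z ∉ (algebraMap K A).range) : (minpoly K z).natDegree = p := by
  rw [← finrank_adjoin, (centralizer_adjoin hA hz).1]

omit [Algebra.IsCentral K A] [FiniteDimensional K A] in
theorem not_mem_range_of_not_comm {w x : A} (h : w * x ≠ x * w) :
    w ∉ (algebraMap K A).range := by
  rintro ⟨c, rfl⟩
  exact h (Algebra.commutes c x)

/-- If `w` does not commute with `x` but `w ^ p` does, then `w ^ p` is central and `w` inseparable. -/
theorem witness [CharP K p] (hA : Module.finrank K A = p ^ 2) {w x : A} (hwx : w * x ≠ x * w)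
    (h : w ^ p * x = x * w ^ p) :
    w ^ p ∈ (algebraMap K A).range ∧ ¬ IsSeparable K w := by
  have hp' : w ^ p ∈ (algebraMap K A).range := by
    by_contra hn
    exact hwx (comm_of hA hn (Commute.self_pow w p).symm.eq h)
  exact ⟨hp', insep_of_pow_mem p (not_mem_range_of_not_comm hwx) hp'⟩

omit [Algebra.IsCentral K A] [FiniteDimensional K A] in
theorem conj_pow {v x : A} {f : A → A} (h : ∀ y, v * y = f y * v) (n : ℕ) :
    v ^ n * x = f^[n] x * v ^ n := by
  induction n with
  | zero => simp
  | succ n ih =>
    rw [pow_succ', mul_assoc, ih, ← mul_assoc, h, Function.iterate_succ', Function.comp_apply,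
      mul_assoc]

end prime

end Groth.Agent.DivAlg
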