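import Mathlib.LinearAlgebra.Matrix.GeneralLinearGroup.Defs
import Mathlib.LinearAlgebra.Matrix.ToLinearEquiv
import Mathlib.LinearAlgebra.Matrix.Trace
import Mathlib.GroupTheory.OrderOfElement
import Mathlib.Tactic.FinCases
import Mathlib.Tactic.Ring
import Mathlib.Tactic.Linarith
import Mathlib.Tactic.LinearCombination
import Mathlib.Tactic.Module

namespace Groth.Agent.BddFin

open Matrix

local notation "M2" => Matrix (Fin 2) (Fin 2) ℤ

lemma sq_eq_trace_smul_sub_det_smul (M : M2) : M * M = M.trace • M - M.det • (1 : M2) := by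
  ext i j
  fin_cases i <;> fin_cases j <;> simp [Matrix.mul_apply, Fin.sum_univ_two, det_fin_two, trace_fin_two, Matrix.smul_apply, Matrix.sub_apply, -zsmul_eq_mul, Matrix.intCast_apply] <;> ring

lemma det_sub_one_fin_two (M : M2) : (M - 1).det = M.det - M.trace + 1 := by
  simp [det_fin_two, trace_fin_two]; ring

lemma abs_trace_le_two_of_det_one (M : M2) (hd : M.det = 1) {m : ℕ} (hm : 0 < m) (hM : M ^ m = 1) :
    |M.trace| ≤ 2 := by
  by_contra hcon
  have h3 : 3 ≤ |M.trace| := by omega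
  have key : ∀ k : ℕ, ∃ a b : ℤ, M ^ (k + 1) = a • M - b • (1 : M2) ∧ |b| < |a| := by
    intro k
    induction k with
    | zero => exact ⟨1, 0, by simp, by simp⟩
    | succ k ih =>
      obtain ⟨a, b, hab, hlt⟩ := ih
      refine ⟨a * M.trace - b, a, ?_, ?_⟩
      · rw [pow_succ, hab, sub_mul, smul_mul_assoc, sq_eq_trace_smul_sub_det_smul, smul_mul_assoc, one_mul, hd]
        module
      · have h1 : |a| * 3 ≤ |a * M.trace| := by
          rw [abs_mul]; exact mul_le_mul_of_nonneg_left h3 (abs_nonneg a)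
        have h2 : |a * M.trace| ≤ |a * M.trace - b| + |b| := by
          have := abs_add_le (a * M.trace - b) b; rwa [sub_add_cancel] at this
        nlinarith [abs_nonneg b, abs_nonneg a]
  obtain ⟨a, b, hab, hlt⟩ := key (m - 1)
  rw [Nat.sub_add_cancel hm, hM] at hab
  have ha : a ≠ 0 := by
    intro h; rw [h, abs_zero] at hlt; exact absurd hlt (not_lt.2 (abs_nonneg b))
  have e01 := congrFun (congrFun hab 0) 1
  have e10 := congrFun (congrFun hab 1) 0
  have e00 := congrFun (congrFun hab 0) 0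
  have e11 := congrFun (congrFun hab 1) 1
  simp [-zsmul_eq_mul, Matrix.intCast_apply] at e01 e10 e00 e11
  have h01 : M 0 1 = 0 := by simpa [ha] using e01
  have h10 : M 1 0 = 0 := by simpa [ha] using e10
  have h11 : M 1 1 = M 0 0 := mul_left_cancel₀ ha (by linarith)
  rw [det_fin_two, h01, h10, h11] at hd
  rw [trace_fin_two, h11] at h3
  rcases Int.eq_one_or_neg_one_of_mul_eq_one (show M 0 0 * M 0 0 = 1 by linarith) with h | h <;> rw [h] at h3 <;> norm_num at h3

lemma eq_one_of_det_one_trace_two (M : M2) (hd : M.det = 1) (ht : M.trace = 2) {m : ℕ} (hm : 0 < m)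
    (hM : M ^ m = 1) : M = 1 := by
  have key : ∀ k : ℕ, M ^ k = (k : ℤ) • M - ((k : ℤ) - 1) • (1 : M2) := by
    intro k
    induction k with
    | zero => simp
    | succ k ih =>
      rw [pow_succ, ih, sub_mul, smul_mul_assoc, sq_eq_trace_smul_sub_det_smul, smul_mul_assoc, one_mul, hd, ht]
      push_cast
      module
  have h := key m
  rw [hM] at h
  have : (m : ℤ) • (M - 1) = 0 := by
    calc (m : ℤ) • (M - 1) = ((m : ℤ) • M - ((m : ℤ) - 1) • (1 : M2)) - 1 := by module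
    _ = 0 := by rw [← h, sub_self]
  ext i j
  have e := congrFun (congrFun this i) j
  simp [Nat.pos_iff_ne_zero.1 hm, -zsmul_eq_mul, Matrix.intCast_apply, -natCast_zsmul, -nsmul_eq_mul] at e
  exact sub_eq_zero.1 e

variable (Γ : Subgroup (Matrix.GeneralLinearGroup (Fin 2) ℤ)) [Finite Γ]

lemma pow_eq_one_of_mem (γ : Matrix.GeneralLinearGroup (Fin 2) ℤ) (hγ : γ ∈ Γ) :
    ∃ m : ℕ, 0 < m ∧ (γ : M2) ^ m = 1 := by
  refine ⟨orderOf (⟨γ, hγ⟩ : Γ), orderOf_pos _, ?_⟩
  have h := congrArg Subtype.val (pow_orderOf_eq_one (⟨γ, hγ⟩ : Γ))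
  rw [SubgroupClass.coe_pow, OneMemClass.coe_one] at h
  have := congrArg Units.val h
  rwa [Units.val_pow_eq_pow_val, Units.val_one] at this

lemma abs_det_sub_one_le (γ : Matrix.GeneralLinearGroup (Fin 2) ℤ) (hγ : γ ∈ Γ) :
    |((γ : M2) - 1).det| ≤ 4 := by
  obtain ⟨m, hm, hM⟩ := pow_eq_one_of_mem Γ γ hγ
  rw [det_sub_one_fin_two]
  have hu : IsUnit (γ : M2).det := (Matrix.isUnit_iff_isUnit_det _).1 γ.isUnit
  rcases Int.isUnit_iff.1 hu with h | h
  · have := abs_le.1 (abs_trace_le_two_of_det_one _ h hm hM)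
    rw [h, abs_le]; omega
  · have hsq : ((γ : M2) * (γ : M2)).det = 1 := by rw [det_mul, h]; rfl
    have hM2 : ((γ : M2) * (γ : M2)) ^ m = 1 := by rw [(Commute.refl _).mul_pow, hM, one_mul]
    have := abs_le.1 (abs_trace_le_two_of_det_one _ hsq hm hM2)
    have ht : ((γ : M2) * (γ : M2)).trace = (γ : M2).trace * (γ : M2).trace + 2 := by
      rw [sq_eq_trace_smul_sub_det_smul, trace_sub, trace_smul, trace_smul, trace_one, h]; simp
    have h0 : (γ : M2).trace = 0 := by
      by_contra h'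
      have : 0 < (γ : M2).trace * (γ : M2).trace := mul_self_pos.2 h'
      omega
    rw [h, h0]; norm_num

lemma exists_common_fixed (h : ∀ γ ∈ Γ, ((γ : M2) - 1).det = 0) :
    ∃ v : Fin 2 → ℤ, v ≠ 0 ∧ ∀ γ ∈ Γ, (γ : M2) *ᵥ v = v := by
  classical
  have key : ∀ γ ∈ Γ, (γ : M2).det = 1 → γ = 1 := by
    intro γ hγ hd
    obtain ⟨m, hm, hM⟩ := pow_eq_one_of_mem Γ γ hγ
    have := h γ hγ
    rw [det_sub_one_fin_two, hd] at this
    exact Units.ext (eq_one_of_det_one_trace_two _ hd (by linarith) hm hM)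
  have hu : ∀ γ : Matrix.GeneralLinearGroup (Fin 2) ℤ, (γ : M2).det = 1 ∨ (γ : M2).det = -1 :=
    fun γ => Int.isUnit_iff.1 ((Matrix.isUnit_iff_isUnit_det _).1 γ.isUnit)
  by_cases htriv : ∀ γ ∈ Γ, γ = 1
  · exact ⟨fun _ => 1, fun h => one_ne_zero (congrFun h 0), fun γ hγ => by simp [htriv γ hγ]⟩
  push_neg at htriv
  obtain ⟨γ, hγ, hne⟩ := htriv
  obtain ⟨v, hv, hv'⟩ := Matrix.exists_mulVec_eq_zero_iff.2 (h γ hγ)
  rw [sub_mulVec, one_mulVec, sub_eq_zero] at hv'
  refine ⟨v, hv, fun δ hδ => ?_⟩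
  rcases hu δ with hd | hd
  · simp [key δ hδ hd]
  · have hγd : (γ : M2).det = -1 := (hu γ).resolve_left fun h1 => hne (key γ hγ h1)
    have hd' : ((δ * γ : Matrix.GeneralLinearGroup (Fin 2) ℤ) : M2).det = 1 := by
      rw [Units.val_mul, det_mul, hd, hγd]; rfl
    have := congrArg Units.val (key _ (Γ.mul_mem hδ hγ) hd')
    rw [Units.val_mul, Units.val_one] at this
    calc (δ : M2) *ᵥ v = (δ : M2) *ᵥ ((γ : M2) *ᵥ v) := by rw [hv']
    _ = v := by rw [mulVec_mulVec, this, one_mulVec]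

end Groth.Agent.BddFin
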